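import Mathlib

/-!
Three transpositions of a group of 3-transpositions whose images generate a quotient of order 54
with central derived element of order 3 generate a complement to the kernel.
-/

set_option autoImplicit false

open scoped commutatorElement

namespace CfsgLib.ThreeTrans.TriangleSplit

variable {G : Type*} [Group G]

/-- Involutions whose product has cube one braid. -/
theorem braid_of_pow {x y : G} (hx : x * x = 1) (hy : y * y = 1) (h : (x * y) ^ 3 = 1) :
    x * y * x = y * x * y := by
  have hx' : x⁻¹ = x := inv_eq_of_mul_eq_one_right hx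
  have hy' : y⁻¹ = y := inv_eq_of_mul_eq_one_right hy
  have h' : (x * y * x) * (y * x * y) = 1 := by
    rw [← h, pow_succ, sq]; simp only [mul_assoc]
  have h1 := eq_inv_of_mul_eq_one_left h'
  rwa [mul_inv_rev, mul_inv_rev, hx', hy', ← mul_assoc] at h1

/-- Two involutions whose product has cube one generate a group of order at most 6. -/
theorem card_pair_le [Finite G] {d e : G} (hd : d * d = 1) (he : e * e = 1)
    (bde : d * e * d = e * d * e) : Nat.card (Subgroup.closure ({d, e} : Set G)) ≤ 6 := by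
  have cd : ∀ z : G, d * (d * z) = z := fun z => by rw [← mul_assoc, hd, one_mul]
  have ce : ∀ z : G, e * (e * z) = z := fun z => by rw [← mul_assoc, he, one_mul]
  have hd' : d⁻¹ = d := inv_eq_of_mul_eq_one_right hd
  have he' : e⁻¹ = e := inv_eq_of_mul_eq_one_right he
  classical
  set W := Subgroup.closure ({d, e} : Set G) with hW
  let S : Finset G := {1, d, e, d * e, e * d, d * e * d}
  have hsub : (W : Set G) ⊆ S := by
    have hstep : ∀ x ∈ S, x * d ∈ S ∧ x * e ∈ S := by
      intro x hx
      simp only [S, Finset.mem_insert, Finset.mem_singleton] at hx ⊢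
      rcases hx with rfl | rfl | rfl | rfl | rfl | rfl <;> constructor
      all_goals simp only [mul_assoc, one_mul, hd, he, cd, ce, mul_one, eq_self_iff_true, true_or,
        or_true]
      · have : e * (d * e) = d * (e * d) := by rw [← mul_assoc, ← mul_assoc, bde]
        simp [this]
      · have : d * (e * (d * e)) = e * d := by
          rw [show d * (e * (d * e)) = d * (e * d * e) by simp only [mul_assoc], ← bde]
          simp only [mul_assoc, cd]
        simp [this]
    intro x hx
    rw [SetLike.mem_coe, hW] at hx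
    induction hx using Subgroup.closure_induction_right with
    | one => simp [S]
    | mul_right x y _ hy ih =>
      rcases hy with rfl | rfl
      · exact (hstep _ ih).1
      · exact (hstep _ ih).2
    | mul_inv_cancel x y _ hy ih =>
      rcases hy with rfl | rfl
      · rw [hd']; exact (hstep _ ih).1
      · rw [he']; exact (hstep _ ih).2
  calc Nat.card W = (W : Set G).ncard := Nat.card_coe_set_eq _
    _ ≤ S.card := by rw [← Set.ncard_coe_finset]; exact Set.ncard_le_ncard hsub (Set.toFinite _)
    _ ≤ 6 := Finset.card_le_six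

/-- Three involutions `d, e, f` with pairwise products of order 3 and `(ede·f)^3 = 1` generate a
group of order at most 54. -/
theorem card_closure_le [Finite G] {d e f : G} (hd : d * d = 1) (he : e * e = 1) (hf : f * f = 1)
    (hde : (d * e) ^ 3 = 1) (hdf : (d * f) ^ 3 = 1) (hef : (e * f) ^ 3 = 1)
    (ha : (e * d * e * f) ^ 3 = 1) :
    Nat.card (Subgroup.closure ({d, e, f} : Set G)) ≤ 54 := by
  have cd : ∀ z : G, d * (d * z) = z := fun z => by rw [← mul_assoc, hd, one_mul]
  have ce : ∀ z : G, e * (e * z) = z := fun z => by rw [← mul_assoc, he, one_mul]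
  have cf : ∀ z : G, f * (f * z) = z := fun z => by rw [← mul_assoc, hf, one_mul]
  have bde := braid_of_pow hd he hde
  have bdf := braid_of_pow hd hf hdf
  have bef := braid_of_pow he hf hef
  have hd' : d⁻¹ = d := inv_eq_of_mul_eq_one_right hd
  have he' : e⁻¹ = e := inv_eq_of_mul_eq_one_right he
  have hf' : f⁻¹ = f := inv_eq_of_mul_eq_one_right hf
  set a := e * d * e * f with hadef
  set b := e * (d * f * d) with hbdef
  set c := d * (e * f * e) with hcdef
  have dad : d * a * d = b := by
    calc d * a * d = (d * (e * d * e)) * f * d := by simp only [hadef, mul_assoc]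
      _ = (d * (d * e * d)) * f * d := by rw [bde]
      _ = b := by simp only [mul_assoc, cd, hbdef]
  have eae : e * a * e = c := by
    simp only [hadef, hcdef, mul_assoc, ce]
  have bc : b * c = a := by
    calc b * c = e * d * (f * (e * f * e)) := by simp only [hbdef, hcdef, mul_assoc, cd]
      _ = e * d * (f * (f * e * f)) := by rw [bef]
      _ = a := by simp only [mul_assoc, cf, hadef]
  have cb : c * b = a := by
    calc c * b = d * (e * f * (d * f * d)) := by simp only [hbdef, hcdef, mul_assoc, ce]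
      _ = d * (e * f * (f * d * f)) := by rw [bdf]
      _ = (d * e * d) * f := by simp only [mul_assoc, cf]
      _ = a := by rw [bde]
  have dcd : d * c * d = c⁻¹ := by
    simp only [hcdef, mul_inv_rev, mul_assoc, cd, hd', he', hf']
  have ebe : e * b * e = b⁻¹ := by
    simp only [hbdef, mul_inv_rev, mul_assoc, ce, hd', he', hf']
  have b3 : b ^ 3 = 1 := by
    rw [← dad, show d * a * d = d * a * d⁻¹ by rw [hd'], conj_pow, ha, mul_one, mul_inv_cancel]
  have c3 : c ^ 3 = 1 := by
    rw [← eae, show e * a * e = e * a * e⁻¹ by rw [he'], conj_pow, ha, mul_one, mul_inv_cancel]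
  have hcomm : Commute b c := bc.trans cb.symm
  set T := Subgroup.closure ({b, c} : Set G) with hT
  have hbT : b ∈ T := Subgroup.subset_closure (Or.inl rfl)
  have hcT : c ∈ T := Subgroup.subset_closure (Or.inr rfl)
  set W := Subgroup.closure ({d, e} : Set G) with hW
  have hcardT : Nat.card T ≤ 9 := by
    have hsub : ∀ x ∈ T, ∃ i j : Fin 3, x = b ^ (i : ℕ) * c ^ (j : ℕ) := by
      intro x hx
      rw [hT] at hx
      induction hx using Subgroup.closure_induction with
      | mem y hy => rcases hy with rfl | rfl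
                    · exact ⟨1, 0, by simp⟩
                    · exact ⟨0, 1, by simp⟩
      | one => exact ⟨0, 0, by simp⟩
      | mul y z _ _ hy hz =>
        obtain ⟨i, j, rfl⟩ := hy; obtain ⟨k, l, rfl⟩ := hz
        refine ⟨i + k, j + l, ?_⟩
        rw [mul_assoc, ← mul_assoc (c ^ (j : ℕ)), (hcomm.symm.pow_pow _ _).eq, mul_assoc (b ^ (k : ℕ)),
          ← mul_assoc, ← pow_add, ← pow_add, Fin.val_add, Fin.val_add, ← pow_eq_pow_mod _ b3,
          ← pow_eq_pow_mod _ c3]
      | inv y _ hy =>
        obtain ⟨i, j, rfl⟩ := hy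
        refine ⟨-i, -j, ?_⟩
        apply inv_eq_of_mul_eq_one_right
        rw [mul_assoc, ← mul_assoc (c ^ (j : ℕ)), (hcomm.symm.pow_pow _ _).eq,
          mul_assoc (b ^ ((-i : Fin 3) : ℕ)), ← mul_assoc, ← pow_add, ← pow_add,
          pow_eq_pow_mod _ b3, pow_eq_pow_mod _ c3, ← Fin.val_add, ← Fin.val_add]
        simp
    choose i j hij using hsub
    have := Nat.card_le_card_of_injective (fun x : T => (i x x.2, j x x.2)) fun x y h => by
      obtain ⟨h1, h2⟩ := Prod.ext_iff.1 h
      refine Subtype.ext ?_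
      rw [hij x x.2, hij y y.2]
      simp only at h1 h2
      rw [h1, h2]
    simpa [Nat.card_eq_fintype_card] using this
  have hcardW : Nat.card W ≤ 6 := card_pair_le hd he bde
  have hnorm : W ≤ Subgroup.normalizer (T : Set G) := by
    rw [hW, Subgroup.closure_le]
    have key : ∀ s : G, s * s = 1 → (∀ x ∈ ({b, c} : Set G), s * x * s ∈ T) →
        s ∈ Subgroup.normalizer (T : Set G) := by
      intro s hs hgen
      have hs' : s⁻¹ = s := inv_eq_of_mul_eq_one_right hs
      have hall : ∀ x ∈ T, s * x * s ∈ T := by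
        intro x hx
        rw [hT] at hx
        induction hx using Subgroup.closure_induction with
        | mem y hy => exact hgen y hy
        | one => rw [mul_one, hs]; exact one_mem _
        | mul y z _ _ hy hz =>
          have : s * (y * z) * s = (s * y * s) * (s * z * s) := by
            simp only [mul_assoc, show ∀ w : G, s * (s * w) = w from fun w => by rw [← mul_assoc, hs, one_mul]]
          rw [this]; exact mul_mem hy hz
        | inv y _ hy =>
          have : s * y⁻¹ * s = (s * y * s)⁻¹ := by rw [mul_inv_rev, mul_inv_rev, hs', mul_assoc]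
          rw [this]; exact inv_mem hy
      rw [Subgroup.mem_normalizer_iff]
      intro x
      rw [hs']
      refine ⟨hall x, fun h => ?_⟩
      have := hall _ h
      rwa [show s * (s * x * s) * s = x by rw [← mul_assoc, ← mul_assoc, hs, one_mul, mul_assoc, hs, mul_one]] at this
    rintro s (rfl | rfl)
    · refine key s hd ?_
      rintro x (rfl | rfl)
      · have : s * b * s = a := by
          rw [← dad]; simp only [mul_assoc, cd, hd, mul_one]
        rw [this, ← bc]; exact mul_mem hbT hcT
      · rw [dcd]; exact inv_mem hcT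
    · refine key s he ?_
      rintro x (rfl | rfl)
      · rw [ebe]; exact inv_mem hbT
      · have : s * c * s = a := by
          rw [← eae]; simp only [mul_assoc, ce, he, mul_one]
        rw [this, ← bc]; exact mul_mem hbT hcT
  have hle : Subgroup.closure ({d, e, f} : Set G) ≤ T ⊔ W := by
    have hdW : d ∈ W := Subgroup.subset_closure (Or.inl rfl)
    have heW : e ∈ W := Subgroup.subset_closure (Or.inr rfl)
    rw [Subgroup.closure_le]
    rintro x (rfl | rfl | rfl)
    · exact Subgroup.mem_sup_right hdW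
    · exact Subgroup.mem_sup_right heW
    · have hfa : x = (e * d * e)⁻¹ * a := by rw [hadef, inv_mul_cancel_left]
      rw [hfa]
      exact mul_mem (Subgroup.mem_sup_right (inv_mem (mul_mem (mul_mem heW hdW) heW)))
        (Subgroup.mem_sup_left (bc ▸ mul_mem hbT hcT))
  calc Nat.card (Subgroup.closure ({d, e, f} : Set G)) ≤ Nat.card ↥(T ⊔ W) :=
        Nat.le_of_dvd Nat.card_pos (Subgroup.card_dvd_of_le hle)
    _ ≤ Nat.card T * Nat.card W := by
        rw [← Nat.card_prod]
        refine Nat.card_le_card_of_surjective (fun p : T × W => (⟨(p.1 : G) * p.2,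
          mul_mem (Subgroup.mem_sup_left p.1.2) (Subgroup.mem_sup_right p.2.2)⟩ : ↥(T ⊔ W))) fun x => ?_
        obtain ⟨t, ht, w, hw, htw⟩ : ∃ t ∈ T, ∃ w ∈ W, t * w = (x : G) := by
          have h := x.2
          rw [← SetLike.mem_coe, Subgroup.coe_mul_of_right_le_normalizer_left T W hnorm, Set.mem_mul] at h
          exact h
        exact ⟨(⟨t, ht⟩, ⟨w, hw⟩), Subtype.ext htw⟩
    _ ≤ 9 * 6 := Nat.mul_le_mul hcardT hcardW

/-- A normal subgroup with quotient of order 54, with a central element of order 3 in the derived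
group of the quotient, has a complement when the group is generated by 3-transpositions. -/
theorem exists_complement [Finite G] {D : Set G} (hinv : ∀ x ∈ D, x * x = 1)
    (h3 : ∀ x ∈ D, ∀ y ∈ D, (x * y) ^ 2 = 1 ∨ (x * y) ^ 3 = 1)
    (hconj : ∀ g : G, ∀ x ∈ D, g * x * g⁻¹ ∈ D) (hgen : Subgroup.closure D = ⊤)
    (V : Subgroup G) [V.Normal] (hQ : Nat.card (G ⧸ V) = 54) (z : G ⧸ V) (hz3 : orderOf z = 3)
    (hzc : z ∈ Subgroup.center (G ⧸ V)) (hzd : z ∈ commutator (G ⧸ V)) :
    ∃ K : Subgroup G, V.IsComplement' K := by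
  classical
  set π := QuotientGroup.mk' V
  have hgenQ : Subgroup.closure (π '' D) = ⊤ := by
    rw [← MonoidHom.map_closure, hgen, Subgroup.map_top_of_surjective _ (QuotientGroup.mk'_surjective V)]
  have hpick : ∀ H : Subgroup (G ⧸ V), Nat.card H < 54 → ∃ x ∈ D, π x ∉ H := by
    intro H hH
    by_contra hne
    push Not at hne
    have : (⊤ : Subgroup (G ⧸ V)) ≤ H := by
      rw [← hgenQ, Subgroup.closure_le]; rintro _ ⟨x, hx, rfl⟩; exact hne x hx
    rw [top_le_iff.1 this, Subgroup.card_top, hQ] at hH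
    exact lt_irrefl _ hH
  have h4 : ¬ 4 ∣ 54 := by norm_num
  have hne3 : ∀ x ∈ D, ∀ y ∈ D, π x ≠ 1 → π y ≠ 1 → π x ≠ π y →
      (x * y) ^ 3 = 1 ∧ orderOf (π (x * y)) = 3 := by
    intro x hx y hy hx1 hy1 hne
    have key : (π x * π y) ^ 2 ≠ 1 := by
      intro h
      apply h4
      rw [← hQ]
      have hcom : π x * π y = π y * π x := by
        have hxi : (π x)⁻¹ = π x := inv_eq_of_mul_eq_one_right (by rw [← map_mul, hinv x hx, map_one])
        have hyi : (π y)⁻¹ = π y := inv_eq_of_mul_eq_one_right (by rw [← map_mul, hinv y hy, map_one])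
        rw [sq] at h
        have := eq_inv_of_mul_eq_one_left h
        rwa [mul_inv_rev, hxi, hyi] at this
      let S : Finset (G ⧸ V) := {1, π x, π y, π x * π y}
      have hxx : π x * π x = 1 := by rw [← map_mul, hinv x hx, map_one]
      have hyy : π y * π y = 1 := by rw [← map_mul, hinv y hy, map_one]
      let Vs : Subgroup (G ⧸ V) :=
        { carrier := {u | u ∈ S}
          one_mem' := by simp [S]
          mul_mem' := by
            have c1 : ∀ w, π x * (π x * w) = w := fun w => by rw [← mul_assoc, hxx, one_mul]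
            have c2 : ∀ w, π y * (π y * w) = w := fun w => by rw [← mul_assoc, hyy, one_mul]
            have c3 : ∀ w, π y * (π x * w) = π x * (π y * w) := fun w => by
              rw [← mul_assoc, ← hcom, mul_assoc]
            intro u v hu hv
            simp only [S, Set.mem_setOf_eq, Finset.mem_insert, Finset.mem_singleton] at hu hv ⊢
            rcases hu with rfl | rfl | rfl | rfl <;> rcases hv with rfl | rfl | rfl | rfl <;>
              simp [mul_assoc, hxx, hyy, hcom.symm, c1, c2, c3]
          inv_mem' := by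
            intro u hu
            simp only [S, Set.mem_setOf_eq, Finset.mem_insert, Finset.mem_singleton] at hu ⊢
            rcases hu with rfl | rfl | rfl | rfl <;>
              simp [inv_eq_of_mul_eq_one_right hxx, inv_eq_of_mul_eq_one_right hyy, hcom.symm] }
      have hxy1 : π x * π y ≠ 1 := by
        intro h'
        exact hne (by rw [← inv_eq_of_mul_eq_one_right hxx, inv_eq_of_mul_eq_one_right h'])
      have hc : Nat.card Vs = 4 := by
        show Nat.card {u // u ∈ S} = 4
        rw [Nat.card_eq_fintype_card, Fintype.card_coe]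
        simp [S, Ne.symm hx1, Ne.symm hy1, hne, Ne.symm hxy1, hy1, hx1]
      rw [← hc]
      exact Subgroup.card_subgroup_dvd_card Vs
    rcases h3 x hx y hy with h | h
    · exact absurd (by rw [← map_mul, ← map_pow, h, map_one]) key
    · refine ⟨h, orderOf_eq_prime (by rw [← map_pow, h, map_one]) fun h1 => key ?_⟩
      rw [← map_mul, h1, one_pow]
  obtain ⟨d, hdD, hd1⟩ := hpick ⊥ (by rw [Subgroup.card_bot]; norm_num)
  rw [Subgroup.mem_bot] at hd1
  have hdd := hinv d hdD
  obtain ⟨e, heD, hed⟩ := hpick (Subgroup.zpowers (π d)) (by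
    have h : orderOf (π d) ∣ 2 := orderOf_dvd_of_pow_eq_one (by rw [sq, ← map_mul, hdd, map_one])
    rw [Nat.card_zpowers]
    exact lt_of_le_of_lt (Nat.le_of_dvd two_pos h) (by norm_num))
  have he1 : π e ≠ 1 := fun h => hed (h ▸ one_mem _)
  have hde : π d ≠ π e := fun h => hed (h ▸ Subgroup.mem_zpowers _)
  set Z := Subgroup.zpowers z with hZ
  haveI : Z.Normal := ⟨fun n hn g => by
    have : n ∈ Subgroup.center (G ⧸ V) := (Subgroup.zpowers_le.2 hzc) hn
    rwa [Subgroup.mem_center_iff.1 this g, mul_inv_cancel_right]⟩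
  set W := Subgroup.closure ({π d, π e} : Set (G ⧸ V)) with hW
  have hdW : π d ∈ W := Subgroup.subset_closure (Or.inl rfl)
  have heW : π e ∈ W := Subgroup.subset_closure (Or.inr rfl)
  obtain ⟨hde3, hde3'⟩ := hne3 d hdD e heD hd1 he1 hde
  have hdd' : π d * π d = 1 := by rw [← map_mul, hdd, map_one]
  have hee' : π e * π e = 1 := by rw [← map_mul, hinv e heD, map_one]
  set r := π (d * e) with hr
  have hr3 : r ^ 3 = 1 := by rw [hr, ← map_pow, hde3, map_one]
  have hbQ : π d * π e * π d = π e * π d * π e :=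
    braid_of_pow hdd' hee' (by rw [← map_mul]; exact hr3)
  have hW6 : Nat.card W ≤ 6 := card_pair_le hdd' hee' hbQ
  have hrW : r ∈ W := by rw [hr, map_mul]; exact mul_mem hdW heW
  -- the centre element lies outside the dihedral subgroup
  set R := Subgroup.zpowers r ⊔ Z with hRdef
  have hrnot : r ∉ Z := by
    intro h
    have hc : r ∈ Subgroup.center (G ⧸ V) := (Subgroup.zpowers_le.2 hzc) h
    have h1 := Subgroup.mem_center_iff.1 hc (π d)
    rw [hr, map_mul, ← mul_assoc, hdd', one_mul] at h1
    have h2 : r ^ 2 = 1 := by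
      rw [sq, hr, map_mul]
      have : π d * π e = π e * π d := by
        calc π d * π e = π d * π e * (π d * π d) := by rw [hdd', mul_one]
          _ = π d * π e * π d * π d := by simp only [mul_assoc]
          _ = π e * π d := by rw [← h1]
      calc π d * π e * (π d * π e) = π d * π e * (π e * π d) := by rw [this]
        _ = 1 := by rw [mul_assoc, ← mul_assoc (π e), hee', one_mul, hdd']
    have : r = 1 := by
      have h3 := hr3
      rw [pow_succ, h2, one_mul] at h3
      exact h3
    rw [← orderOf_eq_one_iff] at this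
    rw [hr, hde3'] at this
    norm_num at this
  have hRd : 9 ∣ Nat.card R := by
    haveI : Fact (Nat.Prime 3) := ⟨Nat.prime_three⟩
    have hZ3 : Nat.card Z = 3 := by rw [hZ, Nat.card_zpowers, hz3]
    have hr3' : Nat.card (Subgroup.zpowers r) = 3 := by rw [Nat.card_zpowers, hr, hde3']
    have hdis : Subgroup.zpowers r ⊓ Z = ⊥ := by
      haveI : Fact (Nat.card (Subgroup.zpowers r)).Prime := ⟨hr3' ▸ Nat.prime_three⟩
      rcases (Subgroup.zpowers r ⊓ Z).subgroupOf (Subgroup.zpowers r) |>.eq_bot_or_eq_top_of_prime_card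
        with h | h
      · rw [Subgroup.subgroupOf_eq_bot, disjoint_iff, inf_right_comm, inf_idem] at h
        exact h
      · rw [Subgroup.subgroupOf_eq_top] at h
        exact absurd (h (Subgroup.mem_zpowers r)).2 hrnot
    have hinj : Function.Injective
        (fun p : Subgroup.zpowers r × Z => (⟨(p.1 : G ⧸ V) * p.2,
          mul_mem (Subgroup.mem_sup_left p.1.2) (Subgroup.mem_sup_right p.2.2)⟩ : R)) := by
      intro p q h
      exact Subgroup.mul_injective_of_disjoint (disjoint_iff.2 hdis) (congrArg Subtype.val h)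
    have hsurj : Function.Surjective
        (fun p : Subgroup.zpowers r × Z => (⟨(p.1 : G ⧸ V) * p.2,
          mul_mem (Subgroup.mem_sup_left p.1.2) (Subgroup.mem_sup_right p.2.2)⟩ : R)) := by
      intro x
      obtain ⟨u, hu, v, hv, huv⟩ := Subgroup.mem_sup_of_normal_right.1 x.2
      exact ⟨(⟨u, hu⟩, ⟨v, hv⟩), Subtype.ext huv⟩
    rw [← Nat.card_eq_of_bijective _ ⟨hinj, hsurj⟩, Nat.card_prod, hZ3, hr3']
  have hRW : R ≤ W ⊔ Z := sup_le_sup_right (Subgroup.zpowers_le.2 hrW) _
  have hWZ18 : 18 ∣ Nat.card ↥(W ⊔ Z) := by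
    have h9 : 9 ∣ Nat.card ↥(W ⊔ Z) := hRd.trans (Subgroup.card_dvd_of_le hRW)
    have h2 : 2 ∣ Nat.card ↥(W ⊔ Z) := by
      have : orderOf (π d) = 2 := orderOf_eq_prime (by rw [sq, hdd']) hd1
      rw [← this, ← Nat.card_zpowers]
      exact Subgroup.card_dvd_of_le (Subgroup.zpowers_le.2 (Subgroup.mem_sup_left hdW))
    exact Nat.Coprime.mul_dvd_of_dvd_of_dvd (by norm_num) h2 h9
  have hWZle : Nat.card ↥(W ⊔ Z) < 54 := by
    refine lt_of_le_of_lt (b := Nat.card W * Nat.card Z) ?_ ?_
    · rw [← Nat.card_prod]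
      refine Nat.card_le_card_of_surjective (fun p : W × Z => (⟨(p.1 : G ⧸ V) * p.2,
        mul_mem (Subgroup.mem_sup_left p.1.2) (Subgroup.mem_sup_right p.2.2)⟩ : ↥(W ⊔ Z))) fun x => ?_
      obtain ⟨u, hu, v, hv, huv⟩ := Subgroup.mem_sup_of_normal_right.1 x.2
      exact ⟨(⟨u, hu⟩, ⟨v, hv⟩), Subtype.ext huv⟩
    · rw [hZ, Nat.card_zpowers, hz3]; omega
  obtain ⟨f, hfD, hf⟩ := hpick (W ⊔ Z) hWZle
  have hfW : π f ∉ W := fun h => hf (Subgroup.mem_sup_left h)
  have hf1 : π f ≠ 1 := fun h => hfW (h ▸ one_mem _)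
  have hei : e⁻¹ = e := inv_eq_of_mul_eq_one_right (hinv e heD)
  have hgD : e * d * e ∈ D := by
    have := hconj e d hdD
    rwa [hei] at this
  obtain ⟨hdf3, -⟩ := hne3 d hdD f hfD hd1 hf1 fun h => hfW (h ▸ hdW)
  obtain ⟨hef3, -⟩ := hne3 e heD f hfD he1 hf1 fun h => hfW (h ▸ heW)
  have hgW : π (e * d * e) ∈ W := by
    rw [map_mul, map_mul]; exact mul_mem (mul_mem heW hdW) heW
  obtain ⟨hgf3, -⟩ := hne3 (e * d * e) hgD f hfD (by
      intro h
      refine hd1 ?_
      have : π d = π e * π (e * d * e) * π e := by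
        rw [← map_mul, ← map_mul]
        congr 1
        rw [← mul_assoc, ← mul_assoc, hinv e heD, one_mul, mul_assoc, hinv e heD, mul_one]
      rw [this, h, mul_one, hee']) hf1 fun h => hfW (h ▸ hgW)
  set K := Subgroup.closure ({d, e, f} : Set G) with hK
  have hK54 : Nat.card K ≤ 54 :=
    card_closure_le hdd (hinv e heD) (hinv f hfD) hde3 hdf3 hef3 hgf3
  set M := K.map π with hM
  have hWM : W ≤ M := by
    rw [hW, Subgroup.closure_le]
    rintro x (rfl | rfl)
    · exact ⟨d, Subgroup.subset_closure (Or.inl rfl), rfl⟩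
    · exact ⟨e, Subgroup.subset_closure (Or.inr (Or.inl rfl)), rfl⟩
  have hfM : π f ∈ M := ⟨f, Subgroup.subset_closure (Or.inr (Or.inr rfl)), rfl⟩
  have hMZ : M ⊔ Z = ⊤ := by
    have hle : W ⊔ Z ≤ M ⊔ Z := sup_le_sup_right hWM _
    have h1 : 18 ∣ Nat.card ↥(M ⊔ Z) := hWZ18.trans (Subgroup.card_dvd_of_le hle)
    have h2 : Nat.card ↥(M ⊔ Z) ∣ 54 := hQ ▸ Subgroup.card_subgroup_dvd_card _
    have h3 : Nat.card ↥(W ⊔ Z) ≠ Nat.card ↥(M ⊔ Z) := fun h =>
      hf ((Subgroup.eq_of_le_of_card_ge hle h.ge) ▸ Subgroup.mem_sup_left hfM)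
    have h4 : Nat.card ↥(W ⊔ Z) ≤ Nat.card ↥(M ⊔ Z) :=
      Nat.le_of_dvd Nat.card_pos (Subgroup.card_dvd_of_le hle)
    refine Subgroup.eq_top_of_card_eq _ ?_
    rw [hQ]
    obtain ⟨k, hk⟩ := h1
    obtain ⟨j, hj⟩ := hWZ18
    have hpos : 0 < Nat.card ↥(W ⊔ Z) := Nat.card_pos
    have hk3 : k ≤ 3 := by
      have := Nat.le_of_dvd (by norm_num) h2
      omega
    interval_cases k
    · omega
    · omega
    · rw [hk] at h2; norm_num at h2
    · exact hk
  have hMtop : M = ⊤ := by
    have hzM : z ∈ M := by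
      have hcl : commutator (G ⧸ V) ≤ M := by
        rw [commutator_eq_closure, Subgroup.closure_le]
        rintro _ ⟨x, y, rfl⟩
        obtain ⟨m, hm, u, hu, rfl⟩ := Subgroup.mem_sup_of_normal_right.1
          (show x ∈ M ⊔ Z from hMZ ▸ Subgroup.mem_top x)
        obtain ⟨n, hn, v, hv, rfl⟩ := Subgroup.mem_sup_of_normal_right.1
          (show y ∈ M ⊔ Z from hMZ ▸ Subgroup.mem_top y)
        have hu' := Subgroup.mem_center_iff.1 ((Subgroup.zpowers_le.2 hzc) hu)
        have hv' := Subgroup.mem_center_iff.1 ((Subgroup.zpowers_le.2 hzc) hv)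
        have : ⁅m * u, n * v⁆ = ⁅m, n⁆ := by
          simp only [commutatorElement_def, mul_inv_rev]
          calc m * u * (n * v) * (u⁻¹ * m⁻¹) * (v⁻¹ * n⁻¹)
              = m * ((n * v) * u) * (u⁻¹ * m⁻¹) * (v⁻¹ * n⁻¹) := by rw [hu' (n * v)]; group
            _ = m * n * (v * m⁻¹) * (v⁻¹ * n⁻¹) := by group
            _ = m * n * (m⁻¹ * v) * (v⁻¹ * n⁻¹) := by rw [hv' m⁻¹]
            _ = m * n * m⁻¹ * n⁻¹ := by group
        rw [this, commutatorElement_def]
        exact mul_mem (mul_mem (mul_mem hm hn) (inv_mem hm)) (inv_mem hn)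
      exact hcl hzd
    rw [← hMZ, sup_eq_left.2 (Subgroup.zpowers_le.2 hzM)]
  refine ⟨K, ?_⟩
  let φ : K →* G ⧸ V := π.comp K.subtype
  have hφs : Function.Surjective φ := fun x => by
    obtain ⟨k, hk, rfl⟩ : x ∈ M := hMtop ▸ Subgroup.mem_top x
    exact ⟨⟨k, hk⟩, rfl⟩
  have hφ : Function.Bijective φ := hφs.bijective_of_nat_card_le (by rw [hQ]; exact hK54)
  refine Subgroup.isComplement'_of_card_mul_and_disjoint ?_ ?_
  · rw [Nat.card_eq_of_bijective φ hφ, mul_comm]
    exact (Subgroup.card_eq_card_quotient_mul_card_subgroup V).symm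
  · rw [disjoint_iff, Subgroup.eq_bot_iff_forall]
    intro x hx
    obtain ⟨hxV, hxK⟩ := Subgroup.mem_inf.1 hx
    have : φ ⟨x, hxK⟩ = φ 1 := by
      rw [map_one]; exact (QuotientGroup.eq_one_iff x).2 hxV
    exact congrArg Subtype.val (hφ.1 this)

end CfsgLib.ThreeTrans.TriangleSplit
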